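import Mathlib.GroupTheory.SchurZassenhaus
import Cfsg.Prelude.Def_Solvable
import Cfsg.Agent.Lib.Frobenius.Basic
import Cfsg.Agent.Lib.Frobenius.Complement
import Cfsg.Agent.Lib.PGroups.ElemAb
import Cfsg.Agent.Lib.PGroups.Omega

/-!
# Solvable groups with disconnected prime graph

They are Frobenius or 2-Frobenius groups (Gruenberg–Kegel).
-/

set_option autoImplicit false

namespace Cfsg.Agent.Lib.PrimeGraph67

open scoped commutatorElement
open Cfsg Cfsg.Agent.Lib

variable {G : Type*} [Group G] [Finite G]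

/-- All primes of the order lie in `A`. -/
def PrimesIn {X : Type*} [Group X] (A : Set ℕ) (K : Subgroup X) : Prop :=
  ∀ p : ℕ, p.Prime → p ∣ Nat.card K → p ∈ A

omit [Finite G] in
theorem PrimesIn.mono {A : Set ℕ} {H K : Subgroup G} (h : PrimesIn A K) (hle : H ≤ K) : PrimesIn A H :=
  fun p hp hd => h p hp (hd.trans (Subgroup.card_dvd_of_le hle))

omit [Finite G] in
theorem coprime_of_primesIn {A : Set ℕ} {H K : Subgroup G} (h1 : PrimesIn A H) (h2 : PrimesIn Aᶜ K) :
    (Nat.card H).Coprime (Nat.card K) :=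
  Nat.coprime_of_dvd fun r hr hd1 hd2 => h2 r hr hd2 (h1 r hr hd1)

omit [Finite G] in
theorem inf_eq_bot {A : Set ℕ} {H K : Subgroup G} (h1 : PrimesIn A H) (h2 : PrimesIn Aᶜ K) :
    H ⊓ K = ⊥ :=
  Subgroup.inf_eq_bot_of_coprime (coprime_of_primesIn h1 h2)

/-- A power of prime order. -/
theorem exists_pow_prime {x : G} (hx : x ≠ 1) {A : Set ℕ} {X : Subgroup G} (hX : PrimesIn A X) (hxX : x ∈ X) :
    ∃ (r k : ℕ), r.Prime ∧ r ∈ A ∧ r ∣ Nat.card G ∧ orderOf (x ^ k) = r := by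
  obtain ⟨r, hr, hd⟩ := Nat.exists_prime_and_dvd (show orderOf x ≠ 1 by simpa using hx)
  exact ⟨r, orderOf x / r, hr, hX r hr (hd.trans (Subgroup.orderOf_dvd_natCard X hxX)),
    hd.trans (orderOf_dvd_natCard x), orderOf_pow_orderOf_div (orderOf_pos x).ne' hd⟩

/-- The disconnection hypothesis. -/
def Separated (A : Set ℕ) (G : Type*) [Group G] : Prop :=
  ∀ a ∈ A, ∀ b ∉ A, a.Prime → b.Prime → a ∣ Nat.card G → b ∣ Nat.card G → ¬ ∃ g : G, orderOf g = a * b

theorem eq_one_of_commute {A : Set ℕ} (hsep : Separated A G) {X Y : Subgroup G} (hX : PrimesIn A X)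
    (hY : PrimesIn Aᶜ Y) {x y : G} (hx : x ∈ X) (hy : y ∈ Y) (hc : x * y = y * x) : x = 1 ∨ y = 1 := by
  by_contra h
  push Not at h
  obtain ⟨r, k, hr, hrA, hrd, hrk⟩ := exists_pow_prime h.1 hX hx
  obtain ⟨s, l, hs, hsA, hsd, hsl⟩ := exists_pow_prime h.2 hY hy
  refine hsep r hrA s hsA hr hs hrd hsd ⟨x ^ k * y ^ l, ?_⟩
  have hne : r ≠ s := fun e => hsA (e ▸ hrA)
  rw [Commute.orderOf_mul_eq_mul_orderOf_of_coprime ((show Commute x y from hc).pow_pow k l)
    (by rw [hrk, hsl]; exact (Nat.coprime_primes hr hs).2 hne), hrk, hsl]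

theorem frobenius_of_primes {A : Set ℕ} (hsep : Separated A G) {Y N C : Subgroup G}
    (hN : PrimesIn A N) (hC : PrimesIn Aᶜ C) (hNY : N ≤ Y) (hCY : C ≤ Y)
    [(N.subgroupOf Y).Normal] (hc : (N.subgroupOf Y).IsComplement' (C.subgroupOf Y))
    (hN1 : N ≠ ⊥) (hC1 : C ≠ ⊥) :
    Cfsg.IsFrobeniusComplement (C.subgroupOf Y) ∧
      Cfsg.frobeniusKernel (C.subgroupOf Y) = (N.subgroupOf Y : Set Y) := by
  have hne : ∀ Z : Subgroup G, Z ≤ Y → Z ≠ ⊥ → Z.subgroupOf Y ≠ ⊥ := fun Z hZ h1 h =>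
    h1 (eq_bot_iff.2 fun z hz => Subgroup.mem_bot.2 (by
      have hm : (⟨z, hZ hz⟩ : Y) ∈ Z.subgroupOf Y := Subgroup.mem_subgroupOf.2 hz
      rw [h, Subgroup.mem_bot] at hm
      exact congrArg Subtype.val hm))
  have hF : Cfsg.IsFrobeniusComplement (C.subgroupOf Y) := by
    refine (Frobenius.isFrobeniusComplement_iff_centralizer hc (hne N hNY hN1) (hne C hCY hC1)).2 ?_
    intro h hh hh1
    rw [Subgroup.eq_bot_iff_forall]
    rintro z ⟨hzN, hzC⟩
    have hcz := Subgroup.mem_centralizer_iff.1 hzC h rfl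
    rcases eq_one_of_commute hsep hN hC (Subgroup.mem_subgroupOf.1 hzN) (Subgroup.mem_subgroupOf.1 hh)
      (congrArg Subtype.val hcz).symm with h' | h'
    · exact Subtype.ext h'
    · exact absurd (Subtype.ext h') hh1
  exact ⟨hF, (Frobenius.coe_eq_frobeniusKernel hF inferInstance hc).symm⟩

/-- A nontrivial solvable group has a normal elementary abelian subgroup. -/
theorem exists_normal_elemAb (X : Type*) [Group X] [Finite X] [Group.IsSolvable X] [Nontrivial X] :
    ∃ (q : ℕ) (E : Subgroup X), q.Prime ∧ E.Normal ∧ E ≠ ⊥ ∧ Cfsg.IsElementaryAbelian q E := by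
  classical
  have hsol : ∃ n, derivedSeries X n = ⊥ := (Group.isSolvable_def X).1 inferInstance
  have hpos : Nat.find hsol ≠ 0 := by
    intro h
    have := Nat.find_spec hsol
    rw [h, derivedSeries_zero] at this
    exact top_ne_bot this
  obtain ⟨m, hm⟩ := Nat.exists_eq_succ_of_ne_zero hpos
  set D := derivedSeries X m
  have hD : D ≠ ⊥ := Nat.find_min hsol (hm ▸ Nat.lt_succ_self m)
  have hab : IsMulCommutative ↥D := by
    have h := Nat.find_spec hsol
    rw [hm, derivedSeries_succ, Subgroup.commutator_eq_bot_iff_le_centralizer] at h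
    exact Subgroup.le_centralizer_iff_isMulCommutative.1 h
  have : D.Normal := derivedSeries_normal X m
  obtain ⟨q, hq, hd⟩ := Nat.exists_prime_and_dvd (show Nat.card D ≠ 1 by
    rwa [Ne, Subgroup.card_eq_one])
  have := Fact.mk hq
  refine ⟨q, Cfsg.omegaOne q D, hq, PGroups.omegaOne_normal, fun hb => ?_, PGroups.elemAb_omegaOne hab⟩
  obtain ⟨z, hz⟩ := exists_prime_orderOf_dvd_card' q hd
  have hm' : (z : X) ∈ Cfsg.omegaOne q D := PGroups.mem_omegaOne_of_pow z.2
    (by rw [← Subgroup.coe_pow, ← hz, pow_orderOf_eq_one]; rfl)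
  rw [hb, Subgroup.mem_bot, OneMemClass.coe_eq_one] at hm'
  rw [hm', orderOf_one] at hz
  exact hq.one_lt.ne hz

/-- The theorem, once a nontrivial normal subgroup with primes in `A` is given. -/
theorem main_of_normal [Group.IsSolvable G] {A : Set ℕ} (hsep : Separated A G)
    (hb : ∃ b ∉ A, b.Prime ∧ b ∣ Nat.card G) {N₀ : Subgroup G} [N₀.Normal] (hN₀ : PrimesIn A N₀)
    (hne : N₀ ≠ ⊥) :
    (∃ C : Subgroup G, Cfsg.IsFrobeniusComplement C) ∨
    (∃ (H K : Subgroup G) (_ : H.Normal), K.Normal ∧ H < K ∧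
      (∃ C : Subgroup ↥K, Cfsg.IsFrobeniusComplement C ∧ Cfsg.frobeniusKernel C = (H.subgroupOf K : Set ↥K)) ∧
      (∃ C : Subgroup (G ⧸ H), Cfsg.IsFrobeniusComplement C ∧ Cfsg.frobeniusKernel C = (K.map (QuotientGroup.mk' H) : Set (G ⧸ H)))) := by
  classical
  obtain ⟨N, hN0N, hNmax⟩ := Finite.exists_le_maximal
    (p := fun N : Subgroup G => N.Normal ∧ PrimesIn A N) (a := N₀) ⟨inferInstance, hN₀⟩
  obtain ⟨hNn, hNA⟩ := hNmax.prop
  have hN1 : N ≠ ⊥ := fun h => hne (eq_bot_iff.2 (h ▸ hN0N))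
  have : Nontrivial (G ⧸ N) := by
    rw [QuotientGroup.nontrivial_iff]
    rintro rfl
    obtain ⟨b, hbA, hb, hbd⟩ := hb
    exact hbA (hNA b hb (by rwa [Subgroup.card_top]))
  have : Group.IsSolvable (G ⧸ N) := inferInstance
  obtain ⟨q, E, hq, hEn, hE1, hE⟩ := exists_normal_elemAb (G ⧸ N)
  have := Fact.mk hq
  set M := E.comap (QuotientGroup.mk' N)
  have hMn : M.Normal := hEn.comap _
  have hNM : N ≤ M := fun x hx => by
    rw [Subgroup.mem_comap, show QuotientGroup.mk' N x = 1 from (QuotientGroup.eq_one_iff x).2 hx]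
    exact one_mem E
  obtain ⟨k, hk⟩ := IsPGroup.iff_card.1 (PGroups.elemAb_isPGroup hE)
  have hMcard : Nat.card M = Nat.card N * q ^ k := by
    rw [← hk]; exact QuotientGroup.card_preimage_mk N (E : Set (G ⧸ N))
  have hqA : q ∉ A := by
    intro hqA
    have hM : PrimesIn A M := by
      intro r hr hd
      rw [hMcard] at hd
      rcases hr.dvd_mul.1 hd with h | h
      · exact hNA r hr h
      · rwa [(Nat.prime_dvd_prime_iff_eq hr hq).1 (hr.dvd_of_dvd_pow h)]
    have hle := hNmax.le_of_ge ⟨hMn, hM⟩ hNM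
    refine hE1 (eq_bot_iff.2 fun e he => ?_)
    obtain ⟨g, rfl⟩ := QuotientGroup.mk'_surjective N e
    exact Subgroup.mem_bot.2 ((QuotientGroup.eq_one_iff g).2 (hle he))
  have hqN : ¬ q ∣ Nat.card N := fun h => hqA (hNA q hq h)
  obtain ⟨P⟩ := (inferInstance : Nonempty (Sylow q M))
  set P' : Subgroup G := (P : Subgroup M).map M.subtype
  have hPM : P' ≤ M := Subgroup.map_subtype_le _
  have hPcard : Nat.card P' = q ^ k := by
    rw [← Nat.card_congr ((P : Subgroup M).equivMapOfInjective M.subtype M.subtype_injective).toEquiv,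
      P.card_eq_multiplicity, hMcard, Nat.factorization_mul Nat.card_pos.ne' (pow_ne_zero _ hq.ne_zero)]
    simp [Nat.factorization_eq_zero_of_not_dvd hqN, hq.factorization_self]
  have hPB : PrimesIn Aᶜ P' := fun r hr hd hrA => hqA
    (((Nat.prime_dvd_prime_iff_eq hr hq).1 (hr.dvd_of_dvd_pow (hPcard ▸ hd))) ▸ hrA)
  have hNP : N ⊓ P' = ⊥ := inf_eq_bot hNA hPB
  have hNMn : (N.subgroupOf M).Normal := inferInstance
  have hcompl : (N.subgroupOf M).IsComplement' (P'.subgroupOf M) := by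
    refine Subgroup.isComplement'_of_disjoint_and_mul_eq_univ ?_ ?_
    · rw [Subgroup.disjoint_def]
      intro z hz1 hz2
      refine Subtype.ext (Subgroup.mem_bot.1 ?_)
      rw [← hNP]
      exact ⟨hz1, hz2⟩
    · refine Set.eq_univ_of_forall fun x => ?_
      rw [← Subgroup.normal_mul, SetLike.mem_coe]
      suffices h : N.subgroupOf M ⊔ P'.subgroupOf M = ⊤ by rw [h]; trivial
      refine Subgroup.eq_top_of_card_eq _ (le_antisymm (Subgroup.card_le_card_group _) ?_)
      have h1 : Nat.card ↥(N.subgroupOf M) ∣ Nat.card ↥(N.subgroupOf M ⊔ P'.subgroupOf M) :=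
        Subgroup.card_dvd_of_le le_sup_left
      have h2 : Nat.card ↥(P'.subgroupOf M) ∣ Nat.card ↥(N.subgroupOf M ⊔ P'.subgroupOf M) :=
        Subgroup.card_dvd_of_le le_sup_right
      rw [Nat.card_congr (Subgroup.subgroupOfEquivOfLe hNM).toEquiv] at h1
      rw [Nat.card_congr (Subgroup.subgroupOfEquivOfLe hPM).toEquiv, hPcard] at h2
      rw [hMcard]
      exact Nat.le_of_dvd Nat.card_pos
        ((Nat.Coprime.pow_right k (hq.coprime_iff_not_dvd.2 hqN).symm).mul_dvd_of_dvd_of_dvd h1 h2)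
  have hP1 : P' ≠ ⊥ := by
    intro h
    rw [h, Subgroup.card_bot] at hPcard
    exact hE1 (Subgroup.card_eq_one.1 (hk.trans hPcard.symm))
  obtain ⟨hPF, hPK⟩ := frobenius_of_primes hsep hNA hPB hNM hPM hcompl hN1 hP1
  -- `P'` is elementary abelian and a Frobenius complement, so of order `q`
  have hPinj : ∀ x ∈ P', QuotientGroup.mk' N x = 1 → x = 1 := fun x hx h => by
    rw [← Subgroup.mem_bot, ← hNP]
    exact ⟨(QuotientGroup.eq_one_iff x).1 h, hx⟩
  have hPel : Cfsg.IsElementaryAbelian q P' := by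
    refine PGroups.elemAb_mk (fun a ha b hb => ?_) fun a ha => ?_
    · refine commutatorElement_eq_one_iff_mul_comm.1 (hPinj _
        (Subgroup.commutator_le_self P' (Subgroup.commutator_mem_commutator ha hb)) ?_)
      rw [map_commutatorElement]
      exact commutatorElement_eq_one_iff_mul_comm.2 (PGroups.elemAb_comm hE (hPM ha) (hPM hb))
    · refine hPinj _ (pow_mem ha q) ?_
      rw [map_pow]
      exact PGroups.elemAb_pow hE (hPM ha)
  have hcyc : IsCyclic ↥(⊤ : Subgroup ↥(P'.subgroupOf M)) := by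
    have : IsMulCommutative ↥(⊤ : Subgroup ↥(P'.subgroupOf M)) :=
      ⟨⟨fun a b => Subtype.ext (Subtype.ext (Subtype.ext
        (PGroups.elemAb_comm hPel a.1.2 b.1.2)))⟩⟩
    exact Frobenius.isCyclic_of_commutative_complement hPF hcompl
  have hk1 : k = 1 := by
    have hc' : IsCyclic ↥P' := isCyclic_of_surjective _
      ((Subgroup.topEquiv).trans (Subgroup.subgroupOfEquivOfLe hPM)).surjective
    obtain ⟨g, hg⟩ := hc'.exists_generator
    have ho : orderOf g = q ^ k := by rw [orderOf_eq_card_of_forall_mem_zpowers hg, hPcard]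
    have hd : q ^ k ∣ q ^ 1 := by
      rw [← ho, pow_one]
      exact orderOf_dvd_of_pow_eq_one (Subtype.ext (by simpa using PGroups.elemAb_pow hPel g.2))
    have h0 : k ≠ 0 := fun h => hP1 (Subgroup.card_eq_one.1 (by rw [hPcard, h, pow_zero]))
    have := (Nat.pow_dvd_pow_iff_le_right hq.one_lt).1 hd
    omega
  subst hk1
  rw [pow_one] at hPcard hMcard
  obtain ⟨⟨y, hy⟩, hygen⟩ := (isCyclic_of_prime_card hPcard).exists_generator
  have hPy : ∀ z ∈ P', ∃ i : ℤ, z = y ^ i := fun z hz => by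
    obtain ⟨i, hi⟩ := Subgroup.mem_zpowers_iff.1 (hygen ⟨z, hz⟩)
    exact ⟨i, by simpa using (congrArg Subtype.val hi).symm⟩
  have hy1 : y ≠ 1 := fun h => hP1 (eq_bot_iff.2 fun z hz => by
    obtain ⟨i, rfl⟩ := hPy z hz
    simp [h])
  -- the normalizer
  set H := Subgroup.normalizer (P' : Set G)
  have hHN : H ⊔ N = ⊤ := by
    have h := Sylow.normalizer_sup_eq_top P
    refine eq_top_iff.2 (h.ge.trans (sup_le le_sup_left ?_))
    intro x hx
    obtain ⟨⟨⟨a, ha⟩, ⟨b, hb⟩⟩, hab⟩ := hcompl.2 ⟨x, hx⟩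
    have hab' : (a : G) * (b : G) = x := congrArg Subtype.val hab
    rw [← hab']
    exact mul_mem (Subgroup.mem_sup_right (Subgroup.mem_subgroupOf.1 ha))
      (Subgroup.mem_sup_left (Subgroup.le_normalizer (Subgroup.mem_subgroupOf.1 hb)))
  have hconj : ∀ h ∈ H, ∃ i : ℤ, h * y * h⁻¹ = y ^ i := fun h hh =>
    hPy _ ((Subgroup.mem_normalizer_iff.1 hh y).1 hy)
  have hNH : N ⊓ H = ⊥ := by
    rw [Subgroup.eq_bot_iff_forall]
    rintro n ⟨hn, hnH⟩
    have hc : n * y * n⁻¹ * y⁻¹ = 1 := by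
      rw [← Subgroup.mem_bot, ← hNP]
      refine Subgroup.mem_inf.2 ⟨?_, mul_mem (a := n * y * n⁻¹) (b := y⁻¹)
        ((Subgroup.mem_normalizer_iff.1 hnH y).1 hy) (inv_mem hy)⟩
      change n * y * n⁻¹ * y⁻¹ ∈ N
      rw [show n * y * n⁻¹ * y⁻¹ = n * (y * n⁻¹ * y⁻¹) by group]
      exact mul_mem hn (hNn.conj_mem _ (inv_mem hn) y)
    rcases eq_one_of_commute hsep hNA hPB hn hy (mul_inv_eq_iff_eq_mul.1 (mul_inv_eq_one.1 hc)) with h | h
    · exact h
    · exact absurd h hy1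
  set C := H ⊓ Subgroup.centralizer ({y} : Set G)
  have hCB : PrimesIn Aᶜ C := by
    intro r hr hd hrA
    have := Fact.mk hr
    obtain ⟨⟨c, hcC⟩, hco⟩ := exists_prime_orderOf_dvd_card' r hd
    rw [Subgroup.orderOf_mk] at hco
    have hc := (Subgroup.mem_inf.1 hcC).2
    have hcA : PrimesIn A (Subgroup.zpowers c) := fun s hs hd' => by
      rw [Nat.card_zpowers, hco] at hd'
      rwa [(Nat.prime_dvd_prime_iff_eq hs hr).1 hd']
    rcases eq_one_of_commute hsep hcA hPB (Subgroup.mem_zpowers c) hy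
      (Subgroup.mem_centralizer_singleton_iff.1 hc) with h | h
    · rw [h, orderOf_one] at hco; exact hr.one_lt.ne hco
    · exact hy1 h
  obtain ⟨K, hCK, hKmax⟩ := Finite.exists_le_maximal
    (p := fun K : Subgroup G => C ≤ K ∧ K ≤ H ∧ PrimesIn Aᶜ K) (a := C) ⟨le_rfl, inf_le_left, hCB⟩
  obtain ⟨-, hKH, hKB⟩ := hKmax.prop
  have hder : ∀ a ∈ H, ∀ b ∈ H, ⁅a, b⁆ ∈ K := by
    intro a ha b hb
    refine hCK ⟨Subgroup.commutator_le_self H (Subgroup.commutator_mem_commutator ha hb), ?_⟩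
    change ⁅a, b⁆ ∈ Subgroup.centralizer ({y} : Set G)
    rw [Subgroup.mem_centralizer_singleton_iff, ← commutatorElement_eq_one_iff_mul_comm]
    obtain ⟨i, hi⟩ := hconj a ha
    obtain ⟨j, hj⟩ := hconj b hb
    have e : a * b * y * b⁻¹ * a⁻¹ = b * a * y * a⁻¹ * b⁻¹ := by
      calc a * b * y * b⁻¹ * a⁻¹ = a * (b * y * b⁻¹) * a⁻¹ := by group
        _ = (a * y * a⁻¹) ^ j := by rw [hj, conj_zpow]
        _ = y ^ (j * i) := by rw [hi, ← zpow_mul, mul_comm]
        _ = (b * y * b⁻¹) ^ i := by rw [hj, ← zpow_mul]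
        _ = b * (a * y * a⁻¹) * b⁻¹ := by rw [hi, conj_zpow]
        _ = b * a * y * a⁻¹ * b⁻¹ := by group
    rw [commutatorElement_eq_one_iff_mul_comm]
    calc ⁅a, b⁆ * y = ⁅a, b⁆ * (b * a) * ((b * a)⁻¹ * y * (b * a)) * (b * a)⁻¹ := by group
      _ = (a * b) * ((b * a)⁻¹ * y * (b * a)) * (b * a)⁻¹ := by
        congr 2; simp [commutatorElement_def, mul_assoc]
      _ = y * ⁅a, b⁆ := ?_
    obtain ⟨l, hl⟩ := hPy _ ((Subgroup.mem_normalizer_iff''.1 (mul_mem hb ha) y).1 hy)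
    rw [hl]
    have e' : a * b * y ^ l * (a * b)⁻¹ = y := by
      calc a * b * y ^ l * (a * b)⁻¹ = (a * b * y * b⁻¹ * a⁻¹) ^ l := by
            rw [← conj_zpow]; congr 1; group
        _ = (b * a * y * a⁻¹ * b⁻¹) ^ l := by rw [e]
        _ = b * a * y ^ l * (b * a)⁻¹ := by rw [← conj_zpow]; congr 1; group
        _ = y := by rw [← hl]; group
    calc a * b * y ^ l * (b * a)⁻¹ = (a * b * y ^ l * (a * b)⁻¹) * ⁅a, b⁆ := by
          simp [commutatorElement_def, mul_assoc]
      _ = y * ⁅a, b⁆ := by rw [e']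
  have hKn : (K.subgroupOf H).Normal := by
    refine ⟨fun z hz g => ?_⟩
    rw [Subgroup.mem_subgroupOf] at hz ⊢
    have := mul_mem (hder g g.2 z z.2) hz
    simpa [commutatorElement_def] using this
  have hHK : ∀ r : ℕ, r.Prime → r ∣ (K.subgroupOf H).index → r ∈ A := by
    intro r hr hd
    by_contra hrA
    have := Fact.mk hr
    rw [Subgroup.index_eq_card] at hd
    obtain ⟨xb, hxb⟩ := exists_prime_orderOf_dvd_card' r hd
    set X := ((Subgroup.zpowers xb).comap (QuotientGroup.mk' (K.subgroupOf H))).map H.subtype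
    have hXcard : Nat.card X = Nat.card K * r := by
      rw [← Nat.card_congr (((Subgroup.zpowers xb).comap _).equivMapOfInjective H.subtype
        H.subtype_injective).toEquiv, ← hxb, ← Nat.card_zpowers xb,
        ← Nat.card_congr (Subgroup.subgroupOfEquivOfLe hKH).toEquiv]
      exact QuotientGroup.card_preimage_mk _ ((Subgroup.zpowers xb : Subgroup (↥H ⧸ K.subgroupOf H)) : Set (↥H ⧸ K.subgroupOf H))
    have hKX : K ≤ X := fun z hz => by
      refine ⟨⟨z, hKH hz⟩, ?_, rfl⟩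
      rw [SetLike.mem_coe, Subgroup.mem_comap, show QuotientGroup.mk' (K.subgroupOf H) ⟨z, hKH hz⟩ = 1 from
        (QuotientGroup.eq_one_iff _).2 (Subgroup.mem_subgroupOf.2 hz)]
      exact one_mem _
    have hle := hKmax.le_of_ge ⟨hCK.trans hKX, Subgroup.map_subtype_le _, fun s hs hd' => by
      rw [hXcard] at hd'
      rcases hs.dvd_mul.1 hd' with h | h
      · exact hKB s hs h
      · rwa [(Nat.prime_dvd_prime_iff_eq hs hr).1 h]⟩ hKX
    have := Subgroup.card_le_of_le hle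
    rw [hXcard] at this
    exact absurd (Nat.le_of_mul_le_mul_left (this.trans (mul_one _).ge) Nat.card_pos) hr.one_lt.not_ge
  obtain ⟨L', hL'⟩ := Subgroup.exists_right_complement'_of_coprime (N := K.subgroupOf H) (by
    rw [Nat.card_congr (Subgroup.subgroupOfEquivOfLe hKH).toEquiv]
    exact Nat.coprime_of_dvd fun r hr h1 h2 => hKB r hr h1 (hHK r hr h2))
  set L := L'.map H.subtype
  have hLH : L ≤ H := Subgroup.map_subtype_le _
  have hLA : PrimesIn A L := by
    intro r hr hd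
    refine hHK r hr ?_
    rw [hL'.symm.index_eq_card]
    rwa [← Nat.card_congr (L'.equivMapOfInjective H.subtype H.subtype_injective).toEquiv] at hd
  have hK1 : K ≠ ⊥ := fun h => hy1 (by
    have : y ∈ K := hCK ⟨Subgroup.le_normalizer hy, Subgroup.mem_centralizer_singleton_iff.2 rfl⟩
    rwa [h, Subgroup.mem_bot] at this)
  set Y := N ⊔ K
  have hNY : N ≤ Y := le_sup_left
  have hKY : K ≤ Y := le_sup_right
  have hNK : N ⊓ K = ⊥ := inf_eq_bot hNA hKB
  have hcY : (N.subgroupOf Y).IsComplement' (K.subgroupOf Y) := by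
    refine Subgroup.isComplement'_of_disjoint_and_mul_eq_univ ?_ ?_
    · rw [Subgroup.disjoint_def]
      intro z hz1 hz2
      refine Subtype.ext (Subgroup.mem_bot.1 ?_)
      rw [← hNK]
      exact ⟨hz1, hz2⟩
    · refine Set.eq_univ_of_forall fun x => ?_
      obtain ⟨a, ha, b, hb, hab⟩ := Subgroup.mem_sup_of_normal_left.1 x.2
      exact ⟨⟨a, hNY ha⟩, ha, ⟨b, hKY hb⟩, hb, Subtype.ext hab⟩
  obtain ⟨hKF, hKK⟩ := frobenius_of_primes hsep hNA hKB hNY hKY hcY hN1 hK1
  by_cases hL1 : L' = ⊥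
  · left
    refine ⟨K, ?_⟩
    have hKeq : K = H := le_antisymm hKH fun z hz => by
      obtain ⟨⟨⟨a, ha⟩, ⟨b, hb⟩⟩, hab⟩ := hL'.2 ⟨z, hz⟩
      rw [hL1] at hb
      have hab' : (a : G) * (b : G) = z := congrArg Subtype.val hab
      rw [← hab', Subgroup.mem_bot.1 hb]
      simpa using Subgroup.mem_subgroupOf.1 ha
    refine (Frobenius.isFrobeniusComplement_iff_centralizer (K := N) ?_ hN1 hK1).2 fun h hh hh1 => ?_
    · refine Subgroup.isComplement'_of_disjoint_and_mul_eq_univ (disjoint_iff.2 hNK) ?_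
      refine Set.eq_univ_of_forall fun x => ?_
      rw [← Subgroup.normal_mul, hKeq, sup_comm, hHN]
      trivial
    · rw [Subgroup.eq_bot_iff_forall]
      rintro z ⟨hzN, hzC⟩
      rcases eq_one_of_commute hsep hNA hKB hzN hh (Subgroup.mem_centralizer_singleton_iff.1 hzC) with h' | h'
      · exact h'
      · exact absurd h' hh1
  · right
    have hnormY : Y.Normal := by
      rw [← Subgroup.normalizer_eq_top_iff, eq_top_iff, ← hHN]
      refine sup_le (fun g hg => ?_) (le_sup_left.trans Subgroup.le_normalizer)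
      refine Subgroup.mem_normalizer_iff.2 fun z => ?_
      have hY : ∀ g ∈ H, ∀ z ∈ Y, g * z * g⁻¹ ∈ Y := by
        intro g hg z hz
        obtain ⟨a, ha, b, hb, rfl⟩ := Subgroup.mem_sup_of_normal_left.1 hz
        rw [show g * (a * b) * g⁻¹ = (g * a * g⁻¹) * (⁅g, b⁆ * b) by simp [commutatorElement_def, mul_assoc]]
        exact mul_mem (hNY (hNn.conj_mem a ha g)) (hKY (mul_mem (hder g hg b (hKH hb)) hb))
      refine ⟨hY g hg z, fun h => ?_⟩
      have := hY g⁻¹ (inv_mem hg) _ h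
      simpa [mul_assoc] using this
    have hNlt : N < Y := lt_of_le_of_ne hNY fun h => hK1 (by
      rw [← inf_eq_right.2 (hKY.trans h.ge), hNK])
    refine ⟨N, Y, hNn, hnormY, hNlt, ⟨_, hKF, hKK⟩, L.map (QuotientGroup.mk' N), ?_⟩
    set π := QuotientGroup.mk' N
    have hHinj : ∀ z ∈ H, π z = 1 → z = 1 := fun z hz h => by
      rw [← Subgroup.mem_bot, ← hNH]
      exact ⟨(QuotientGroup.eq_one_iff z).1 h, hz⟩
    have hYmap : Y.map π = K.map π := by
      refine le_antisymm ?_ (Subgroup.map_mono hKY)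
      rw [Subgroup.map_sup, QuotientGroup.map_mk'_self, bot_sup_eq]
    have : (K.map π).Normal := hYmap ▸ hnormY.map π (QuotientGroup.mk'_surjective N)
    have hc : (K.map π).IsComplement' (L.map π) := by
      refine Subgroup.isComplement'_of_disjoint_and_mul_eq_univ ?_ ?_
      · rw [Subgroup.disjoint_def]
        rintro _ ⟨a, ha, rfl⟩ ⟨b, hb, hab⟩
        have h1 := hHinj (a⁻¹ * b) (mul_mem (inv_mem (hKH ha)) (hLH hb))
          (by rw [map_mul, map_inv, hab, inv_mul_cancel])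
        have : a ∈ K ⊓ L := ⟨ha, by rwa [inv_mul_eq_one.1 h1]⟩
        rw [inf_comm, inf_eq_bot hLA hKB, Subgroup.mem_bot] at this
        rw [this, map_one]
      · refine Set.eq_univ_of_forall fun x => ?_
        obtain ⟨g, rfl⟩ := QuotientGroup.mk'_surjective N x
        obtain ⟨h, hh, n, hn, rfl⟩ :=
          Subgroup.mem_sup_of_normal_right.1 (hHN.ge (Subgroup.mem_top g) : g ∈ H ⊔ N)
        obtain ⟨⟨⟨a, ha⟩, ⟨b, hb⟩⟩, hab⟩ := hL'.2 ⟨h, hh⟩
        refine ⟨π a, Subgroup.mem_map_of_mem π (Subgroup.mem_subgroupOf.1 ha), π b,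
          Subgroup.mem_map_of_mem π (Subgroup.mem_map_of_mem H.subtype hb), ?_⟩
        have hab' : (a : G) * (b : G) = h := congrArg Subtype.val hab
        change π a * π b = π (h * n)
        rw [map_mul π h n, show π n = 1 from (QuotientGroup.eq_one_iff n).2 hn, mul_one, ← map_mul, hab']
    have hne : ∀ Z : Subgroup G, Z ≤ H → Z ≠ ⊥ → Z.map π ≠ ⊥ := fun Z hZ h1 h =>
      h1 ((Subgroup.eq_bot_iff_forall _).2 fun z hz =>
        hHinj z (hZ hz) (by simpa [h] using Subgroup.mem_map_of_mem π hz))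
    have hL1' : L ≠ ⊥ := fun h => hL1 ((Subgroup.map_eq_bot_iff_of_injective _ H.subtype_injective).1 h)
    have hF : Cfsg.IsFrobeniusComplement (L.map π) := by
      refine (Frobenius.isFrobeniusComplement_iff_centralizer hc (hne K hKH hK1) (hne L hLH hL1')).2 ?_
      rintro _ ⟨l, hl, rfl⟩ hl1
      rw [Subgroup.eq_bot_iff_forall]
      rintro _ ⟨⟨z, hz, rfl⟩, hzC⟩
      have hcz := Subgroup.mem_centralizer_singleton_iff.1 hzC
      have h1 : ⁅l, z⁆ = 1 := hHinj _ (Subgroup.commutator_le_self H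
        (Subgroup.commutator_mem_commutator (hLH hl) (hKH hz)))
        (by rw [map_commutatorElement]; exact commutatorElement_eq_one_iff_mul_comm.2 hcz.symm)
      rcases eq_one_of_commute hsep hLA hKB hl hz (commutatorElement_eq_one_iff_mul_comm.1 h1) with h' | h'
      · exact absurd (by rw [h', map_one]) hl1
      · rw [h', map_one]
    exact ⟨hF, by rw [hYmap]; exact (Frobenius.coe_eq_frobeniusKernel hF inferInstance hc).symm⟩

end Cfsg.Agent.Lib.PrimeGraph67
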